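import Groth.Agent.VanImm6.Basic
import Groth.Agent.PnEmb.Criterion

/-!
# Affine charts of the open complement cut out by vanishing sections
-/

set_option autoImplicit false
set_option backward.isDefEq.respectTransparency.types false
set_option maxHeartbeats 1000000

universe u

open CategoryTheory CategoryTheory.Limits AlgebraicGeometry Opposite TopologicalSpace
open Groth.Agent.Coherent Groth.Agent.PicLib Groth.Agent.AmpleLib

namespace Groth.Agent.PnEmb

/-- The chart of a linear form. -/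
noncomputable def chartOpenOf (r : ℕ) (k : Type u) [CommRing k] (a : Fin (r + 1) → k) :
    (CohB1.ProjSpace r k).Opens :=
  Proj.basicOpen (CohB1.polyGrading r k) (UPLib.linForm r a)

end Groth.Agent.PnEmb

namespace Groth.Agent.VanImm6

variable {X Z : Scheme.{u}}

/-- An affine neighbourhood inside `U` which is, for every large power, the locus of a section vanishing on `Z`
whose quotients with such sections generate the functions. -/
theorem exists_chart {k : Type u} [Field k] (f : X ⟶ Spec (CommRingCat.of k)) [IsProper f] {L : X.Modules}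
    (hLa : CohB1.IsAmple L) (i : Z ⟶ X) [IsClosedImmersion i] (U : X.Opens) (hU : ∀ z : Z, i z ∉ U)
    {x : X} (hx : x ∈ U) :
    ∃ V : X.Opens, x ∈ V ∧ V ≤ U ∧ IsAffineOpen V ∧ ∃ n₁ : ℕ, ∀ n, n₁ ≤ n →
      ∃ t : Γ(CohB1.tensorPow L n, ⊤), PicLib.pullSec i t = 0 ∧ glocus _ t = V ∧ ∃ S : Set Γ(X, V),
        Subring.closure (Set.range (f.appLE ⊤ V le_top) ∪ S) = ⊤ ∧ ∀ c ∈ S,
          ∃ v : Γ(CohB1.tensorPow L n, ⊤), PicLib.pullSec i v = 0 ∧
            resM _ (le_top : V ≤ ⊤) v = c • resM _ (le_top : V ≤ ⊤) t := by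
  classical
  have hL := hLa.1
  haveI : CompactSpace X := QuasiCompact.compactSpace_of_compactSpace f
  haveI : CompactSpace Z := QuasiCompact.compactSpace_of_compactSpace i
  haveI : X.IsSeparated := ⟨by
    rw [← terminal.comp_from f]
    infer_instance⟩
  haveI : QuasiSeparatedSpace X := inferInstance
  obtain ⟨W, hxW, g₀, hg₀⟩ := exists_isGen hL x
  obtain ⟨m, hm, b, hxb, hbU, hbaff⟩ := affGlocus_of_mem (U := U ⊓ W) hLa ⟨hx, hxW⟩
  let g := resM L (hbU.trans inf_le_right) g₀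
  have hg : IsGen L (glocus _ b) g := hg₀.restrict _
  have hgm := isGen_powSec hg m
  obtain ⟨lam, hlam⟩ := (hgm _ le_rfl).2 (resM _ (le_top : glocus _ b ≤ ⊤) b)
  replace hlam : resM _ (le_top : glocus _ b ≤ ⊤) b = lam • powSec g m := by
    rw [← hlam]
    show lam • resM _ le_rfl (powSec g m) = _
    rw [resM_self]
  have hlamU : IsUnit lam := by
    obtain ⟨mu, hmu⟩ := ((isGen_glocus b) _ le_rfl).2 (powSec g m)
    have hmu' : (mu * lam) • resM _ le_rfl (powSec g m) = (1 : Γ(X, glocus _ b)) • resM _ le_rfl (powSec g m) := by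
      rw [resM_self, one_smul, mul_smul, ← hlam]
      refine Eq.trans ?_ hmu
      show _ = mu • resM _ _ (resM _ _ _)
      rw [resM_self]
    exact IsUnit.of_mul_eq_one_right mu ((hgm _ le_rfl).1 hmu')
  obtain ⟨q, hq⟩ := exists_pullSec_powSec_eq_zero i (isInvertible_tensorPow hL m) b
    (fun z hz => hU z (hbU hz).1)
  obtain ⟨S, hS⟩ : ∃ S : Finset Γ(X, glocus _ b),
      Subring.closure (Set.range (f.appLE ⊤ (glocus _ b) le_top) ∪ (S : Set Γ(X, glocus _ b))) = ⊤ := by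
    have hft := f.finiteType_appLE (isAffineOpen_top _) hbaff (le_top : glocus _ b ≤ f ⁻¹ᵁ ⊤)
    letI := (f.appLE ⊤ (glocus _ b) le_top).hom.toAlgebra
    obtain ⟨S, hS⟩ := (show Algebra.FiniteType Γ(Spec (CommRingCat.of k), ⊤) Γ(X, glocus _ b) from hft).out
    refine ⟨S, ?_⟩
    have h := congrArg Subalgebra.toSubring hS
    rw [Algebra.top_toSubring, Algebra.adjoin_eq_ring_closure] at h
    exact h
  choose n₁ hn₁ using fun c : Γ(X, glocus _ b) => exists_ext i hL hm b g lam hlam hq c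
  refine ⟨glocus _ b, hxb, fun y hy => (hbU hy).1, hbaff, max (n₁ 1) (S.sup n₁), fun n hn => ?_⟩
  obtain ⟨t, ht0, htle, ht⟩ := hn₁ 1 n (le_of_max_le_left hn)
  rw [one_mul] at ht
  have htg : IsGen _ (glocus _ b) (resM _ (le_top : glocus _ b ≤ ⊤) t) := by
    rw [ht, isGen_smul_iff (hlamU.pow _)]
    exact isGen_powSec hg n
  refine ⟨t, ht0, le_antisymm htle ((le_glocus_iff _ _).2 htg), S, hS, fun c hc => ?_⟩
  obtain ⟨v, hv0, -, hv⟩ := hn₁ c n ((Finset.le_sup hc).trans (le_of_max_le_right hn))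
  exact ⟨v, hv0, by rw [hv, ht, mul_smul]⟩

variable (U : X.Opens) (M : X.Modules)

/-- A global section of `M` restricted to the open subscheme `U`. -/
noncomputable def resSec (s : Γ(M, ⊤)) : Γ(M.restrict U.ι, ⊤) :=
  (M.restrictAppIso U.ι ⊤).inv (resM M le_top s)

theorem resM_resSec (T : (U : Scheme.{u}).Opens) (s : Γ(M, ⊤)) :
    resM (M.restrict U.ι) (le_top : T ≤ ⊤) (resSec U M s) =
      (M.restrictAppIso U.ι T).inv (resM M le_top s) :=
  resM_resM M _ (U.ι.image_mono le_top) s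

theorem smul_restrict (T : (U : Scheme.{u}).Opens) (r : Γ((U : Scheme.{u}), T)) (a : Γ(M.restrict U.ι, T)) :
    (r • a : Γ(M.restrict U.ι, T)) = (show Γ(M, U.ι ''ᵁ T) from (U.ι.appIso T).inv r •
      (show Γ(M, U.ι ''ᵁ T) from a)) :=
  rfl

theorem isGen_resSec_iff (T : (U : Scheme.{u}).Opens) (s : Γ(M, ⊤)) :
    IsGen (M.restrict U.ι) T (resM _ le_top (resSec U M s)) ↔
      IsGen M (U.ι ''ᵁ T) (resM M le_top s) := by
  have key : ∀ (S : (U : Scheme.{u}).Opens) (h : S ≤ T),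
      (fun r : Γ((U : Scheme.{u}), S) => r • resM (M.restrict U.ι) h (resM _ le_top (resSec U M s))) =
        (fun r : Γ(X, U.ι ''ᵁ S) => r • resM M (U.ι.image_mono h) (resM M le_top s)) ∘
          (U.ι.appIso S).inv := fun S h => funext fun r => by
    rw [Function.comp_apply, resM_resM, resM_resM, resM_resSec]
    rfl
  constructor
  · intro hs S hST
    obtain ⟨S', rfl⟩ : ∃ S', U.ι ''ᵁ S' = S := ⟨U.ι ⁻¹ᵁ S, by
      rw [Scheme.Hom.image_preimage_eq_opensRange_inf, inf_eq_right]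
      exact hST.trans (U.ι.image_le_opensRange T)⟩
    have hS' : S' ≤ T := fun y hy => by
      obtain ⟨y', hy', e⟩ := hST ⟨y, hy, rfl⟩
      exact U.ι.isOpenEmbedding.injective e ▸ hy'
    have h := hs S' hS'
    rw [key S' hS'] at h
    exact (Function.Bijective.of_comp_iff _
      (ConcreteCategory.bijective_of_isIso (U.ι.appIso S').inv)).1 h
  · intro hs S hST
    rw [key S hST]
    exact (hs _ (U.ι.image_mono hST)).comp (ConcreteCategory.bijective_of_isIso (U.ι.appIso S).inv)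

theorem glocus_resSec (s : Γ(M, ⊤)) : glocus (M.restrict U.ι) (resSec U M s) = U.ι ⁻¹ᵁ glocus M s := by
  refine le_antisymm ?_ ?_
  · intro y hy
    exact (le_glocus_iff s _).2 ((isGen_resSec_iff U M _ s).1 (isGen_glocus (resSec U M s)))
      (Set.mem_image_of_mem U.ι hy)
  · rw [le_glocus_iff, isGen_resSec_iff, ← le_glocus_iff]
    exact Scheme.Hom.image_preimage_eq_opensRange_inf U.ι _ ▸ inf_le_right

/-- Sections, one of which generates near each point, generate. -/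
theorem generatedBy_of_cover {Y : Scheme.{u}} (N : Y.Modules) {ι : Type*} (σ : ι → ProjUP.Γm N)
    (h : ∀ y : Y, ∃ j, y ∈ glocus N (σ j)) : ProjUP.GeneratedBy N σ := by
  intro y
  obtain ⟨j, hj⟩ := h y
  refine eq_top_iff.2 fun z _ => ?_
  obtain ⟨W, hyW, a, rfl⟩ := N.presheaf.exists_germ_eq z
  let W' := glocus N (σ j) ⊓ W
  obtain ⟨c, hc⟩ := (isGen_glocus (σ j) W' inf_le_left).2 (resM N inf_le_right a)
  rw [← TopCat.Presheaf.germ_res_apply N.presheaf (homOfLE (inf_le_right : W' ≤ W)) y ⟨hj, hyW⟩ a]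
  erw [← hc]
  erw [PresheafOfModules.germ_smul N.val y W' ⟨hj, hyW⟩]
  refine Submodule.smul_mem _ _ (Submodule.subset_span ⟨j, ?_⟩)
  erw [resM_resM]
  exact (TopCat.Presheaf.germ_res_apply N.presheaf (homOfLE le_top) y (show y ∈ W' from ⟨hj, hyW⟩) (σ j)).symm

theorem resSec_smul (a : Γ(X, ⊤)) (s : Γ(M, ⊤)) :
    resSec U M (a • s) = U.ι.appTop a • resSec U M s := by
  show resM M (le_top : U.ι ''ᵁ ⊤ ≤ ⊤) (a • s) =
    (U.ι.appIso ⊤).inv (U.ι.appTop a) • resM M (le_top : U.ι ''ᵁ ⊤ ≤ ⊤) s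
  rw [resM_smul, Scheme.Opens.ι_appIso]
  rfl

theorem resSec_sum {ι : Type*} (T : Finset ι) (s : ι → Γ(M, ⊤)) :
    resSec U M (∑ j ∈ T, s j) = ∑ j ∈ T, resSec U M (s j) := by
  simp only [resSec, map_sum]

/-- A morphism to projective space given by sections pulls linear forms back to their combinations. -/
theorem exists_iso_linForm {k : Type u} [CommRing k] {Y : Scheme.{u}} {r : ℕ} (q : Y ⟶ Spec (CommRingCat.of k))
    {N : Y.Modules} (hN : PicF.IsInvertible N) (σ : Fin (r + 1) → Γ(N, ⊤)) (φ : Y ⟶ CohB1.ProjSpace r k)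
    (hφ : φ ≫ CohB1.ProjSpace.toSpec r k = q)
    (τ : (Scheme.Modules.pullback φ).obj (Twist.twistProjSpace r k 1) ≅ N)
    (hτ : ∀ j, τ.hom.app ⊤ (ProjUP.pullSec φ (Twist.twistProjSpace r k 1) (ProjUP.coord r k j)) = σ j)
    (hcov : ∀ y : Y, ∃ c : Fin (r + 1) → k, y ∈ glocus N (∑ j, ProjUP.toGlobal q (c j) • σ j)) :
    ∃ τ' : (Scheme.Modules.pullback φ).obj (Twist.twistProjSpace r k 1) ≅ N, ∀ c : Fin (r + 1) → k,
      τ'.hom.app ⊤ (ProjUP.pullSec φ (Twist.twistProjSpace r k 1)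
        (Twist.globalOf (CohB1.polyGrading r k) ⟨UPLib.linForm r c, UPLib.linForm_mem r c⟩)) =
        ∑ j, ProjUP.toGlobal q (c j) • σ j := by
  classical
  let v : (Fin (r + 1) → k) →+ Γ(N, ⊤) :=
    { toFun := fun c => ∑ j, ProjUP.toGlobal q (c j) • σ j
      map_zero' := by simp
      map_add' := fun c c' => by simp [add_smul, Finset.sum_add_distrib] }
  have hv : ∀ (a : k) (c : Fin (r + 1) → k), v (a • c) = ProjUP.toGlobal q a • v c := fun a c => by
    show ∑ j, ProjUP.toGlobal q ((a • c) j) • σ j = ProjUP.toGlobal q a • ∑ j, ProjUP.toGlobal q (c j) • σ j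
    rw [Finset.smul_sum]
    refine Finset.sum_congr rfl fun j _ => ?_
    rw [Pi.smul_apply, smul_eq_mul, map_mul, mul_smul]
  have hve : ∀ j, v (Pi.single j 1) = σ j := fun j => by
    show ∑ l, ProjUP.toGlobal q ((Pi.single j (1 : k) : Fin (r + 1) → k) l) • σ l = σ j
    rw [Finset.sum_eq_single j]
    · rw [Pi.single_eq_same, map_one, one_smul]
    · intro l _ hl
      rw [Pi.single_eq_of_ne hl, map_zero, zero_smul]
    · simp
  obtain ⟨r', hr', τ', hτ'⟩ : ∃ (r' : Y ⟶ CohB1.ProjSpace r k) (_ : r' ≫ CohB1.ProjSpace.toSpec r k = q)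
      (τ' : (Scheme.Modules.pullback r').obj (Twist.twistProjSpace r k 1) ≅ N), ∀ c : Fin (r + 1) → k,
        τ'.hom.app ⊤ (ProjUP.pullSec r' (Twist.twistProjSpace r k 1)
          (Twist.globalOf (CohB1.polyGrading r k) ⟨UPLib.linForm r c, UPLib.linForm_mem r c⟩)) = v c := by
    obtain ⟨r', hr', τ', hτ'⟩ := UPLib.exists_hom_twist (𝒮 := CohB1.polyGrading r k) (ι := UPLib.linForm r)
        (UPLib.linForm_mem r) (UPLib.isSymmetricAlgebra_linForm r) q hN v hv hcov
    exact ⟨r', hr', τ', hτ'⟩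
  have hco : ∀ j, τ'.hom.app ⊤ (ProjUP.pullSec r' (Twist.twistProjSpace r k 1) (ProjUP.coord r k j)) = σ j :=
    fun j => by
      refine Eq.trans ?_ ((hτ' (Pi.single j 1)).trans (hve j))
      rw [UPLib.linForm_single' r j]
      rfl
  have he : r' = φ := by
    refine UPLib.eq_of_iso_projSpace r (hr'.trans hφ.symm) (τ' ≪≫ τ.symm) fun j => ?_
    show τ.inv.app ⊤ (τ'.hom.app ⊤ _) = _
    rw [hco j, ← hτ j, ← ConcreteCategory.comp_apply]
    rw [show τ.hom.app ⊤ ≫ τ.inv.app ⊤ = 𝟙 _ from congrArg (fun α => α.app ⊤) τ.hom_inv_id]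
    rfl
  subst he
  exact ⟨τ', hτ'⟩

/-- On the locus of a pulled back linear form the functions come from projective space. -/
theorem surjective_app_chart {k : Type u} [CommRing k] {r : ℕ} (f : X ⟶ Spec (CommRingCat.of k))
    (φ : (U : Scheme.{u}) ⟶ CohB1.ProjSpace r k) (hφ : φ ≫ CohB1.ProjSpace.toSpec r k = U.ι ≫ f)
    (τ : (Scheme.Modules.pullback φ).obj (Twist.twistProjSpace r k 1) ≅ M.restrict U.ι)
    {V : X.Opens} (hVU : V ≤ U) (S : Set Γ(X, V))
    (hS : Subring.closure (Set.range (f.appLE ⊤ V le_top) ∪ S) = ⊤)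
    (t : Γ(M, ⊤)) (ht : glocus M t = V) (a : Fin (r + 1) → k)
    (hat : τ.hom.app ⊤ (ProjUP.pullSec φ (Twist.twistProjSpace r k 1)
      (Twist.globalOf (CohB1.polyGrading r k) ⟨UPLib.linForm r a, UPLib.linForm_mem r a⟩)) = resSec U M t)
    (hv : ∀ c ∈ S, ∃ (v : Γ(M, ⊤)) (b : Fin (r + 1) → k),
      resM M (le_top : V ≤ ⊤) v = c • resM M le_top t ∧
      τ.hom.app ⊤ (ProjUP.pullSec φ (Twist.twistProjSpace r k 1)
        (Twist.globalOf (CohB1.polyGrading r k) ⟨UPLib.linForm r b, UPLib.linForm_mem r b⟩)) = resSec U M v)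
    (Vc : (CohB1.ProjSpace r k).Opens)
    (hVc : Vc = Proj.basicOpen (CohB1.polyGrading r k) (UPLib.linForm r a))
    (hpre : φ ⁻¹ᵁ Vc = U.ι ⁻¹ᵁ V) :
    Function.Surjective (φ.app Vc) := by
  subst hVc
  have key : ∀ (W : (U : Scheme.{u}).Opens), W = U.ι ⁻¹ᵁ V →
      ∀ hW : W ≤ φ ⁻¹ᵁ PnEmb.chartOpenOf r k a, Function.Surjective (φ.appLE (PnEmb.chartOpenOf r k a) W hW) := by
    rintro W rfl hW z
    have hVle : V ≤ U.ι ''ᵁ U.ι ⁻¹ᵁ V := by
      rw [Scheme.Hom.image_preimage_eq_opensRange_inf, Scheme.Opens.opensRange_ι]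
      exact le_inf hVU le_rfl
    have hle : U.ι ''ᵁ U.ι ⁻¹ᵁ V ≤ V :=
      Scheme.Hom.image_preimage_eq_opensRange_inf U.ι V ▸ inf_le_right
    have hR : (⊤ : Subring Γ(X, V)) ≤ (φ.appLE (PnEmb.chartOpenOf r k a) _ hW).hom.range.comap (U.ι.app V).hom := by
      rw [← hS, Subring.closure_le]
      rintro c (⟨e, rfl⟩ | hc)
      · have h0 : PnEmb.chartOpenOf r k a ≤ CohB1.ProjSpace.toSpec r k ⁻¹ᵁ ⊤ := fun _ _ => trivial
        refine ⟨(CohB1.ProjSpace.toSpec r k).appLE ⊤ (PnEmb.chartOpenOf r k a) h0 e, ?_⟩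
        show ((CohB1.ProjSpace.toSpec r k).appLE ⊤ _ h0 ≫ φ.appLE _ _ hW) e =
          (f.appLE ⊤ V le_top ≫ U.ι.app V) e
        rw [Scheme.Hom.appLE_comp_appLE, Scheme.Hom.app_eq_appLE, Scheme.Hom.appLE_comp_appLE]
        simp only [hφ]
      · obtain ⟨v, b, hvt, hbv⟩ := hv c hc
        obtain ⟨d, hd⟩ := PnEmb.exists_app_smul_eq (𝒜 := CohB1.polyGrading r k)
          (UPLib.linForm_mem r a) (UPLib.linForm_mem r b) φ τ (U.ι ⁻¹ᵁ V) hW
        have hd' : φ.appLE (PnEmb.chartOpenOf r k a) (U.ι ⁻¹ᵁ V) hW d •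
            resM (M.restrict U.ι) (le_top : U.ι ⁻¹ᵁ V ≤ ⊤) (resSec U M t) =
              resM (M.restrict U.ι) (le_top : U.ι ⁻¹ᵁ V ≤ ⊤) (resSec U M v) := by
          rw [← hat, ← hbv]
          exact hd
        refine ⟨d, ?_⟩
        have hgen : IsGen (M.restrict U.ι) (U.ι ⁻¹ᵁ V) (resM _ le_top (resSec U M t)) :=
          (le_glocus_iff _ _).1 (by rw [glocus_resSec, ht])
        refine (hgen _ le_rfl).1 ?_
        show _ • resM _ le_rfl _ = _ • resM _ le_rfl _
        rw [PicLib.resM_self]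
        refine hd'.trans ?_
        rw [resM_resSec, resM_resSec]
        show resM M (le_top : U.ι ''ᵁ U.ι ⁻¹ᵁ V ≤ ⊤) v =
          (U.ι.appIso (U.ι ⁻¹ᵁ V)).inv (U.ι.app V c) • resM M (le_top : U.ι ''ᵁ U.ι ⁻¹ᵁ V ≤ ⊤) t
        have h := congrArg (resM M hle) hvt
        rw [resM_smul, resM_resM, resM_resM] at h
        rw [h, Scheme.Opens.ι_appIso]
        rfl
    obtain ⟨d, hd⟩ := hR (Subring.mem_top (PicLib.res hVle z))
    refine ⟨d, hd.trans ?_⟩
    rw [Scheme.Opens.ι_app]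
    show PicLib.res hle (PicLib.res hVle z) = z
    rw [PicLib.res_res]
    exact ConcreteCategory.congr_hom (X.presheaf.map_id _) z
  rw [Scheme.Hom.app_eq_appLE]
  exact key _ hpre le_rfl

end Groth.Agent.VanImm6
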