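import Groth.Agent.AmpleLib.Twist2
import Groth.Agent.AmpleLib.Local
import Groth.Agent.Coherent.Serre.RightMul
import Groth.Prelude.Def_ProjUP
import Mathlib.AlgebraicGeometry.Morphisms.FiniteType

/-!
# Sections of powers of an ample module vanishing on a closed subscheme
-/

set_option autoImplicit false
set_option backward.isDefEq.respectTransparency.types false
set_option maxHeartbeats 1000000

universe u

open CategoryTheory CategoryTheory.Limits AlgebraicGeometry Opposite TopologicalSpace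
open Groth.Agent.Coherent Groth.Agent.PicLib Groth.Agent.AmpleLib

namespace Groth.Agent.VanImm6

variable {X Z : Scheme.{u}} {L : X.Modules} (i : Z ⟶ X)

/-- A power of a section whose locus misses `Z` vanishes on `Z`. -/
theorem exists_pullSec_powSec_eq_zero [CompactSpace Z] {P : X.Modules} (hP : PicF.IsInvertible P)
    (b : Γ(P, ⊤)) (hb : ∀ z : Z, i z ∉ glocus P b) :
    ∃ q : ℕ, ∀ d, q ≤ d → PicLib.pullSec i (powSec b d) = 0 := by
  let P' := (Scheme.Modules.pullback i).obj P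
  have hP' : PicF.IsInvertible P' := PicLoc.isInvertible_pullback i hP
  let a : Γ(P', ⊤) := PicLib.pullSec i b
  have ha : glocus P' a = i ⁻¹ᵁ glocus P b := glocus_pullSec i hP b
  haveI : Coh.IsQCoh (Coh.structureModule Z) := isQCoh_structureModule (X := Z)
  have h0 : resM (Coh.structureModule Z) (le_top : glocus P' a ≤ ⊤) (oneSec ⊤) = 0 :=
    AmpleLib.sec_ext _ _ _ fun y hy => (hb y (ha.le hy)).elim
  obtain ⟨q, hq⟩ := exists_tmul_powSec_eq_zero (Coh.structureModule Z) a hP' (oneSec ⊤) h0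
  have hq' : powSec a q = 0 := by
    have h := congrArg ((unitTensorIso (CohB1.tensorPow P' q)).hom.app ⊤) hq
    rw [map_zero] at h
    refine Eq.trans ?_ h
    refine Eq.symm ((Bilin.desc_tmul _ _ _ _).trans ?_)
    exact one_smul Γ(Z, ⊤) (powSec a q)
  refine ⟨q, fun d hd => ?_⟩
  have hd' : powSec a d = 0 := by
    induction d, hd using Nat.le_induction with
    | base => exact hq'
    | succ d _ ih => rw [powSec_succ, ih]; exact tmul_zero_left _
  obtain ⟨e, he⟩ := exists_pullPowIso i hP d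
  refine (ConcreteCategory.bijective_of_isIso (e.hom.app (i ⁻¹ᵁ (⊤ : X.Opens)))).1 ?_
  rw [he, map_zero]
  exact hd'

/-- Vanishing on `Z` survives products and maps. -/
theorem pullSec_map_eq_zero {P Q : X.Modules} (φ : P ⟶ Q) {a : Γ(P, ⊤)}
    (ha : PicLib.pullSec i a = 0) : PicLib.pullSec i (φ.app ⊤ a) = 0 := by
  rw [← pullback_map_app_pullSec, ha, map_zero]

theorem pullSec_tmul_eq_zero {P M : X.Modules} {a : Γ(P, ⊤)} (w : Γ(M, ⊤))
    (ha : PicLib.pullSec i a = 0) : PicLib.pullSec i (tmul a w) = 0 := by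
  have h := pullSec_map_eq_zero i (Serre.rightMul P w) ha
  rwa [Serre.rightMul_app, resM_self] at h

/-- Extension of a function on the locus of `b` times the trivialising section to powers of `L` in one residue. -/
theorem exists_ext_residue [CompactSpace X] [QuasiSeparatedSpace X] (hL : PicF.IsInvertible L) {m : ℕ}
    (b : Γ(CohB1.tensorPow L m, ⊤)) (g : Γ(L, glocus _ b)) (lam : Γ(X, glocus _ b))
    (hb : resM _ (le_top : glocus _ b ≤ ⊤) b = lam • powSec g m) {q : ℕ}
    (hq : ∀ d, q ≤ d → PicLib.pullSec i (powSec b d) = 0) (c : Γ(X, glocus _ b)) (j : ℕ) :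
    ∃ N : ℕ, ∀ d, q + 1 ≤ d → ∃ v : Γ(CohB1.tensorPow L (m * d + (j + m * N)), ⊤),
      PicLib.pullSec i v = 0 ∧ glocus _ v ≤ glocus _ b ∧
        resM _ (le_top : glocus _ b ≤ ⊤) v =
          (c * lam ^ (d + N)) • powSec g (m * d + (j + m * N)) := by
  have hP := isInvertible_tensorPow hL m
  haveI : Coh.IsQCoh (CohB1.tensorPow L j) := isQCoh_of_isInvertible (isInvertible_tensorPow hL j)
  obtain ⟨N, u, hu⟩ := exists_extend (L := CohB1.tensorPow L m) (CohB1.tensorPow L j) b hP (c • powSec g j)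
  obtain ⟨e1, he1⟩ := exists_powPowIso hL m N
  obtain ⟨e2, he2⟩ := exists_powIso hL j (m * N)
  let u' : Γ(CohB1.tensorPow L (j + m * N), ⊤) :=
    e2.hom.app ⊤ ((tensorMap (𝟙 _) e1.hom).app ⊤ u)
  have hu' : resM _ (le_top : glocus _ b ≤ ⊤) u' = (c * lam ^ N) • powSec g (j + m * N) := by
    simp only [u']
    rw [← app_resM, ← app_resM, hu, hb, powSec_smul, tmul_smul_smul, Scheme.Modules.Hom.app_smul,
      tensorMap_tmul, Scheme.Modules.Hom.app_smul]
    refine congrArg _ ?_
    rw [he1]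
    exact he2 _ _
  refine ⟨N, fun d hd => ?_⟩
  obtain ⟨d', rfl⟩ : ∃ d', d = d' + 1 := ⟨d - 1, by omega⟩
  obtain ⟨e3, he3⟩ := exists_powPowIso hL m (d' + 1)
  obtain ⟨e4, he4⟩ := exists_powIso hL (m * (d' + 1)) (j + m * N)
  refine ⟨e4.hom.app ⊤ (tmul (e3.hom.app ⊤ (powSec b (d' + 1))) u'), ?_, ?_, ?_⟩
  · exact pullSec_map_eq_zero i e4.hom
      (pullSec_tmul_eq_zero i u' (pullSec_map_eq_zero i e3.hom (hq _ (by omega))))
  · rw [glocus_map_iso, glocus_tmul (isInvertible_tensorPow hL _) (isInvertible_tensorPow hL _), glocus_map_iso,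
      glocus_powSec hP]
    exact inf_le_left
  · rw [← app_resM, resM_tmul, ← app_resM, resM_powSec, hb, hu', powSec_smul, Scheme.Modules.Hom.app_smul, he3,
      tmul_smul_smul, Scheme.Modules.Hom.app_smul, he4]
    congr 1
    ring

/-- Extension to all large powers of `L`. -/
theorem exists_ext [CompactSpace X] [QuasiSeparatedSpace X] (hL : PicF.IsInvertible L) {m : ℕ} (hm : 0 < m)
    (b : Γ(CohB1.tensorPow L m, ⊤)) (g : Γ(L, glocus _ b)) (lam : Γ(X, glocus _ b))
    (hb : resM _ (le_top : glocus _ b ≤ ⊤) b = lam • powSec g m) {q : ℕ}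
    (hq : ∀ d, q ≤ d → PicLib.pullSec i (powSec b d) = 0) (c : Γ(X, glocus _ b)) :
    ∃ n₁ : ℕ, ∀ n, n₁ ≤ n → ∃ v : Γ(CohB1.tensorPow L n, ⊤),
      PicLib.pullSec i v = 0 ∧ glocus _ v ≤ glocus _ b ∧
        resM _ (le_top : glocus _ b ≤ ⊤) v = (c * lam ^ (n / m)) • powSec g n := by
  choose N hN using fun j : Fin m => exists_ext_residue i hL b g lam hb hq c j
  refine ⟨m * (q + 1 + Finset.univ.sup N), fun n hn => ?_⟩
  obtain ⟨j, hj⟩ : ∃ j : Fin m, (j : ℕ) = n % m := ⟨⟨n % m, Nat.mod_lt _ hm⟩, rfl⟩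
  have h1 : q + 1 + Finset.univ.sup N ≤ n / m := (Nat.le_div_iff_mul_le hm).2 (by rwa [mul_comm])
  have h2 : N j ≤ Finset.univ.sup N := Finset.le_sup (Finset.mem_univ j)
  obtain ⟨d, hd⟩ := Nat.exists_eq_add_of_le (show N j ≤ n / m by omega)
  have h3 : n = m * d + (n % m + m * N j) := by
    have := Nat.div_add_mod n m
    rw [hd, mul_add] at this
    omega
  obtain ⟨v, hv⟩ := hN j d (by omega)
  rw [hd, add_comm (N j) d]
  change ∃ v : Γ(CohB1.tensorPow L n, ⊤), _
  generalize hn' : m * d + ((j : ℕ) + m * N j) = n' at v hv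
  obtain rfl : n = n' := by
    rw [← hn']
    rw [hj]
    omega
  exact ⟨v, hv⟩

end Groth.Agent.VanImm6
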